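import Mathlib
import Cfsg.Agent.Helper71.BSW.Defs

/-!
# S3282 (helper71's architecture) piece (B1): arithmetic of `q`, `d`, `k` (board WANTED #10870)
-/

set_option autoImplicit false

namespace Cfsg.Agent.Helper53.BSW

open Cfsg.Agent.Helper71.BSW

/-- coprimality from an integer Bezout identity -/
theorem coprime_of_bezout {a b : ℕ} (u v : ℤ) (h : u * (a : ℤ) + v * (b : ℤ) = 1) :
    Nat.Coprime a b :=
  Nat.isCoprime_iff_coprime.mp ⟨u, v, h⟩

theorem b_arith {G : Type*} [Group G] [Finite G] {t s : G} {K : Subgroup G} {q d : ℕ}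
    (c : Ctx t s K q d) (A0 : FactsA0 t s K)
    :
    Odd q ∧ Odd d ∧ q.Coprime (2 * Nat.card K) ∧ d.Coprime (2 * Nat.card K) ∧ q.Coprime d ∧
      q ^ 2 = 4 * Nat.card K * d + 1 ∧ 3 ≤ d ∧ 7 ≤ q := by
  obtain ⟨m, hm⟩ := A0.two_dvd_card_K
  have hk4 := c.k4
  rcases c.sign with ⟨hq, hd⟩ | ⟨hq, hd⟩
  · -- plus case
    refine ⟨⟨Nat.card K, by omega⟩, ⟨m, by omega⟩, ?_, ?_, ?_, ?_, by omega, by omega⟩
    · apply coprime_of_bezout 1 (-1)
      rw [hq]; push_cast; ring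
    · apply coprime_of_bezout (1 - 2 * (m : ℤ)) (m : ℤ)
      rw [hd, hm]; push_cast; ring
    · apply coprime_of_bezout (-1) 2
      rw [hq, hd]; push_cast; ring
    · rw [hq, hd]; ring
  · -- minus case
    have hqZ : (q : ℤ) = 2 * (Nat.card K : ℤ) - 1 := by
      have : ((q + 1 : ℕ) : ℤ) = ((2 * Nat.card K : ℕ) : ℤ) := by rw [hq]
      push_cast at this
      linarith
    have hdZ : (d : ℤ) = (Nat.card K : ℤ) - 1 := by
      have : ((d + 1 : ℕ) : ℤ) = ((Nat.card K : ℕ) : ℤ) := by rw [hd]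
      push_cast at this
      linarith
    have hmZ : (Nat.card K : ℤ) = 2 * (m : ℤ) := by
      rw [hm]; push_cast; ring
    refine ⟨⟨Nat.card K - 1, by omega⟩, ⟨m - 1, by omega⟩, ?_, ?_, ?_, ?_, by omega, by omega⟩
    · apply coprime_of_bezout (-1) 1
      push_cast
      rw [hqZ]; ring
    · apply coprime_of_bezout (-(2 * (m : ℤ) + 1)) (m : ℤ)
      push_cast
      rw [hdZ, hmZ]; ring
    · apply coprime_of_bezout 1 (-2)
      rw [hqZ, hdZ]; ring
    · have h : ((q ^ 2 : ℕ) : ℤ) = ((4 * Nat.card K * d + 1 : ℕ) : ℤ) := by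
        push_cast
        rw [hqZ, hdZ]; ring
      exact_mod_cast h

end Cfsg.Agent.Helper53.BSW
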