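import Mathlib
import Cfsg.Agent.Helper71.BSW.Defs

/-!
# S3282 (helper71's architecture) piece (B11): odd-order elements normalizing an `ℓ`-subgroup
(`ℓ` odd, `ℓ ∤ q`) centralize it (board WANTED #10880)
-/

set_option autoImplicit false

namespace Cfsg.Agent.Helper53.BSW

open Cfsg.Agent.Helper71.BSW

/-- if the involution `u` inverts the subgroup `D`, every element of `D ⊔ ⟨u⟩` lies in `D` or in
`D u` -/
theorem mem_or_mul_mem_of_mem_sup {G : Type*} [Group G] {D : Subgroup G} {u : G}
    (hu2 : u * u = 1) (hinv : ∀ w ∈ D, u * w * u⁻¹ = w⁻¹) {g : G}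
    (hg : g ∈ D ⊔ Subgroup.zpowers u) : g ∈ D ∨ g * u ∈ D := by
  have hui : u⁻¹ = u := inv_eq_of_mul_eq_one_right hu2
  have hinv' : ∀ w ∈ D, u * w * u = w⁻¹ := by
    intro w hw
    have := hinv w hw
    rwa [hui] at this
  have huz : ∀ z : G, u * (u * z) = z := fun z => by rw [← mul_assoc, hu2, one_mul]
  let T : Subgroup G :=
    { carrier := {x | x ∈ D ∨ x * u ∈ D}
      one_mem' := Or.inl D.one_mem
      mul_mem' := by
        rintro x y (hx | hx) (hy | hy)
        · exact Or.inl (D.mul_mem hx hy)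
        · right
          rw [mul_assoc]
          exact D.mul_mem hx hy
        · right
          have h1 : x * y * u = (x * u) * (u * y * u) := by
            simp only [mul_assoc, huz]
          rw [h1, hinv' y hy]
          exact D.mul_mem hx (D.inv_mem hy)
        · left
          have h1 : x * y = (x * u) * (u * (y * u) * u) := by
            simp only [mul_assoc, huz, hu2, mul_one]
          rw [h1, hinv' _ hy]
          exact D.mul_mem hx (D.inv_mem hy)
      inv_mem' := by
        rintro x (hx | hx)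
        · exact Or.inl (D.inv_mem hx)
        · right
          have h1 : x⁻¹ * u = (u * (x * u)⁻¹ * u) := by
            rw [mul_inv_rev, hui]
            simp only [mul_assoc, huz]
          have h2 := hinv' _ (D.inv_mem hx)
          rw [inv_inv] at h2
          rw [h1, h2]
          exact hx }
  have hDT : D ≤ T := fun x hx => Or.inl hx
  have huT : u ∈ T := Or.inr (by rw [hu2]; exact D.one_mem)
  have hle : D ⊔ Subgroup.zpowers u ≤ T := sup_le hDT ((Subgroup.zpowers_le).mpr huT)
  exact hle hg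

theorem b_odd_normalizer_centralizes {G : Type*} [Group G] [Finite G] {t s : G} {K : Subgroup G} {q d : ℕ}
    (c : Ctx t s K q d) (A0 : FactsA0 t s K) (A1 : FactsA1 t s K)
    (h_arith : Odd q ∧ Odd d ∧ q.Coprime (2 * Nat.card K) ∧ d.Coprime (2 * Nat.card K) ∧ q.Coprime d ∧
      q ^ 2 = 4 * Nat.card K * d + 1 ∧ 3 ≤ d ∧ 7 ≤ q)
    (h_card_cent_D : ∀ y : G, y ≠ 1 → (orderOf y).Coprime (2 * Nat.card K * q) →
    Nat.card (Subgroup.centralizer ({y} : Set G)) = d ∧
      ∃ u : G, orderOf u = 2 ∧ ∀ v ∈ Subgroup.centralizer ({y} : Set G), u * v * u⁻¹ = v⁻¹)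
    (h_cent_D_eq : ∀ y v : G, y ≠ 1 → (orderOf y).Coprime (2 * Nat.card K * q) →
    v ∈ Subgroup.centralizer ({y} : Set G) → v ≠ 1 →
    (orderOf v).Coprime (2 * Nat.card K * q) ∧
      Subgroup.centralizer ({v} : Set G) = Subgroup.centralizer ({y} : Set G))
    (h_normalizer_D : ∀ y u : G, y ≠ 1 → (orderOf y).Coprime (2 * Nat.card K * q) → orderOf u = 2 →
    (∀ v ∈ Subgroup.centralizer ({y} : Set G), u * v * u⁻¹ = v⁻¹) →
    u ∉ Subgroup.centralizer ({y} : Set G) ∧
    Subgroup.normalizer ((Subgroup.centralizer ({y} : Set G) : Subgroup G) : Set G) =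
      Subgroup.centralizer ({y} : Set G) ⊔ Subgroup.zpowers u ∧
    ∀ X : Subgroup G, X ≤ Subgroup.centralizer ({y} : Set G) → X ≠ ⊥ →
      Subgroup.normalizer (X : Set G) =
        Subgroup.normalizer ((Subgroup.centralizer ({y} : Set G) : Subgroup G) : Set G))
    :
    ∀ ℓ : ℕ, ℓ.Prime → ℓ ≠ 2 → ¬ ℓ ∣ q → ∀ A : Subgroup G,
    IsPGroup ℓ A → ∀ g ∈ Subgroup.normalizer (A : Set G), Odd (orderOf g) →
      g ∈ Subgroup.centralizer (A : Set G) := by
  intro ℓ hℓ hℓ2 hℓq A hA g hg hgodd
  haveI : Fact ℓ.Prime := ⟨hℓ⟩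
  obtain ⟨-, -, -, hd2k, hqd, -, -, -⟩ := h_arith
  by_cases hAbot : A = ⊥
  · subst hAbot
    rw [Subgroup.mem_centralizer_iff]
    intro h hh
    have : h = 1 := by simpa using hh
    rw [this, one_mul, mul_one]
  -- `ℓ` divides `k` or `d`
  have hℓA : ℓ ∣ Nat.card A := by
    rcases hA.card_eq_or_dvd with h | h
    · exact absurd (Subgroup.card_eq_one.mp h) hAbot
    · exact h
  have hℓG : ℓ ∣ 2 * Nat.card K * q * d := by
    rw [← c.card]
    exact hℓA.trans (Subgroup.card_subgroup_dvd_card A)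
  have hℓ2' : ¬ ℓ ∣ 2 := by
    intro h
    exact hℓ2 ((Nat.prime_dvd_prime_iff_eq hℓ Nat.prime_two).mp h)
  have hcases : ℓ ∣ Nat.card K ∨ ℓ ∣ d := by
    rcases (Nat.Prime.dvd_mul hℓ).mp hℓG with h | h
    · rcases (Nat.Prime.dvd_mul hℓ).mp h with h | h
      · rcases (Nat.Prime.dvd_mul hℓ).mp h with h | h
        · exact absurd h hℓ2'
        · exact Or.inl h
      · exact absurd h hℓq
    · exact Or.inr h
  rw [Subgroup.mem_centralizer_iff]
  rcases hcases with hℓk | hℓd
  · -- `A` is conjugate into `K`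
    obtain ⟨x, hx⟩ := A1.sylow_into_K ℓ hℓ hℓ2 hℓk A hA
    have hA'bot : A.map (MulAut.conj x).toMonoidHom ≠ ⊥ := by
      intro h
      exact hAbot ((Subgroup.map_eq_bot_iff_of_injective A (MulAut.conj x).injective).mp h)
    have hg' : x * g * x⁻¹ ∈ Subgroup.normalizer
        ((A.map (MulAut.conj x).toMonoidHom : Subgroup G) : Set G) := by
      apply Subgroup.le_normalizer_map (MulAut.conj x).toMonoidHom
      exact ⟨g, hg, rfl⟩
    have hg't := A0.normalizer_le_cent_t _ hx hA'bot hg'
    have hord : orderOf (x * g * x⁻¹) = orderOf g := by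
      have := MulEquiv.orderOf_eq (MulAut.conj x) g
      rwa [MulAut.conj_apply] at this
    have hg'K : x * g * x⁻¹ ∈ K := A0.mem_K_of_odd _ hg't (by rw [hord]; exact hgodd)
    intro a ha
    have ha' : x * a * x⁻¹ ∈ K := hx ⟨a, ha, rfl⟩
    have hcomm := c.hyp.hKab _ hg'K _ ha'
    have h1 : x * (g * a) * x⁻¹ = x * (a * g) * x⁻¹ := by
      calc x * (g * a) * x⁻¹ = (x * g * x⁻¹) * (x * a * x⁻¹) := by group
        _ = (x * a * x⁻¹) * (x * g * x⁻¹) := hcomm
        _ = x * (a * g) * x⁻¹ := by group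
    exact (mul_left_cancel (mul_right_cancel h1)).symm
  · -- `A ≤ C(v)` for a central element `v` of `A`
    haveI : Nontrivial A := (Subgroup.nontrivial_iff_ne_bot A).mpr hAbot
    haveI : Nontrivial (Subgroup.center A) := hA.center_nontrivial
    obtain ⟨⟨v, hvZ⟩, hv1⟩ := exists_ne (1 : Subgroup.center A)
    have hv01 : (v : G) ≠ 1 := by
      intro h
      apply hv1
      apply Subtype.ext
      apply Subtype.ext
      exact h
    have hvcomm : ∀ a ∈ A, a * (v : G) = (v : G) * a := by
      intro a ha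
      have := (Subgroup.mem_center_iff.mp hvZ) ⟨a, ha⟩
      exact congrArg Subtype.val this
    -- the order of `v` is prime to `2 k q`
    obtain ⟨j, hj⟩ := (IsPGroup.iff_orderOf.mp hA) v
    have hℓcop : Nat.Coprime ℓ (2 * Nat.card K * q) := by
      rw [Nat.Prime.coprime_iff_not_dvd hℓ]
      intro h
      rcases (Nat.Prime.dvd_mul hℓ).mp h with h | h
      · have h1 := Nat.dvd_gcd hℓd h
        rw [hd2k.gcd_eq_one] at h1
        exact hℓ.one_lt.ne' (Nat.dvd_one.mp h1)
      · exact hℓq h
    have hcop : (orderOf (v : G)).Coprime (2 * Nat.card K * q) := by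
      rw [Subgroup.orderOf_coe, hj]
      exact Nat.Coprime.pow_left j hℓcop
    obtain ⟨-, u, hu2, hinv⟩ := h_card_cent_D (v : G) hv01 hcop
    obtain ⟨-, hND, hNX⟩ := h_normalizer_D (v : G) u hv01 hcop hu2 hinv
    have hAD : A ≤ Subgroup.centralizer ({(v : G)} : Set G) := by
      intro a ha
      rw [Subgroup.mem_centralizer_iff]
      intro h hh
      rw [Set.mem_singleton_iff] at hh
      rw [hh]
      exact (hvcomm a ha).symm
    have hgN : g ∈ Subgroup.centralizer ({(v : G)} : Set G) ⊔ Subgroup.zpowers u := by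
      rw [← hND, ← hNX A hAD hAbot]
      exact hg
    have huu : u * u = 1 := by
      rw [← pow_two, ← hu2]
      exact pow_orderOf_eq_one u
    have hgD : g ∈ Subgroup.centralizer ({(v : G)} : Set G) := by
      rcases mem_or_mul_mem_of_mem_sup huu hinv hgN with h | h
      · exact h
      · -- `g = w u` with `w ∈ D` has `g² = 1`
        have hui : u⁻¹ = u := inv_eq_of_mul_eq_one_right huu
        have h1 := hinv _ h
        have hg2 : g * g = 1 := by
          have e1 : u * (g * u) * u⁻¹ = u * g := by group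
          rw [e1] at h1
          -- `u * g = (g * u)⁻¹ = u⁻¹ * g⁻¹`
          rw [mul_inv_rev, hui] at h1
          have e2 : g = g⁻¹ := mul_left_cancel h1
          calc g * g = g * g⁻¹ := by rw [← e2]
            _ = 1 := mul_inv_cancel g
        have hdvd : orderOf g ∣ 2 := by
          apply orderOf_dvd_of_pow_eq_one
          rw [pow_two, hg2]
        have hone : orderOf g = 1 := by
          rcases (Nat.dvd_prime Nat.prime_two).mp hdvd with h' | h'
          · exact h'
          · rw [h'] at hgodd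
            exact absurd hgodd (by decide)
        rw [orderOf_eq_one_iff.mp hone]
        exact Subgroup.one_mem _
    -- `D` is abelian
    intro a ha
    have haD := hAD ha
    have e1 := hinv _ (Subgroup.mul_mem _ haD hgD)
    have e2 := hinv _ haD
    have e3 := hinv _ hgD
    have e4 : u * (a * g) * u⁻¹ = (u * a * u⁻¹) * (u * g * u⁻¹) := by group
    rw [e4, e2, e3, mul_inv_rev] at e1
    -- `a⁻¹ * g⁻¹ = g⁻¹ * a⁻¹`
    have e5 : (a * g)⁻¹ = (g * a)⁻¹ := by
      rw [mul_inv_rev, mul_inv_rev]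
      exact e1.symm
    exact inv_injective e5

end Cfsg.Agent.Helper53.BSW
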