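import Mathlib
import Cfsg.Agent.Helper71.BSW.Defs

/-!
# S3282 (helper71's architecture) piece (B2): trichotomy of the non-identity elements
(board WANTED #10871)
-/

set_option autoImplicit false

namespace Cfsg.Agent.Helper53.BSW

open Cfsg.Agent.Helper71.BSW

theorem b_trichotomy {G : Type*} [Group G] [Finite G] {t s : G} {K : Subgroup G} {q d : ℕ}
    (c : Ctx t s K q d) (A1 : FactsA1 t s K)
    :
    ∀ g : G, g ≠ 1 → (∃ x : G, x * g * x⁻¹ ∈ K) ∨
    (orderOf g).Coprime (2 * Nat.card K * d) ∨ (orderOf g).Coprime (2 * Nat.card K * q) := by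
  intro g _
  by_cases h2k : (orderOf g).Coprime (2 * Nat.card K)
  · by_cases hq : (orderOf g).Coprime q
    · right; right
      exact Nat.Coprime.mul_right h2k hq
    · right; left
      apply Nat.Coprime.mul_right h2k
      by_contra hd
      obtain ⟨p, hp, hpg, hpq⟩ := Nat.Prime.not_coprime_iff_dvd.mp hq
      obtain ⟨r, hr, hrg, hrd⟩ := Nat.Prime.not_coprime_iff_dvd.mp hd
      exact c.nopr g p r hp hr hpq hrd hpg hrg
  · left
    exact A1.conj_into_K g h2k

end Cfsg.Agent.Helper53.BSW
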