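import Mathlib
import Cfsg.Agent.Helper71.BSW.Defs

/-!
# S3282 (helper71's architecture) piece (C10): `|N(C(z))| (q + 1) = |G|` (board WANTED #10919)

Double counting of the pairs `(g, w)`, `w` a `q`-element with `g⁻¹ w g ∈ Q = C(z)`: for each `g` there
are `q - 1` such `w` (the non-identity elements of `g Q g⁻¹`), for each `w` the `g` form a coset of
`N(Q)`.
-/

set_option autoImplicit false

namespace Cfsg.Agent.Helper53.BSW

open Cfsg.Agent.Helper71.BSW Finset

theorem c_card_normalizer_Q {G : Type*} [Group G] [Finite G] {t s : G} {K : Subgroup G} {q d : ℕ}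
    (c : Ctx t s K q d) (A1 : FactsA1 t s K)
    (h_arith : Odd q ∧ Odd d ∧ q.Coprime (2 * Nat.card K) ∧ d.Coprime (2 * Nat.card K) ∧ q.Coprime d ∧
      q ^ 2 = 4 * Nat.card K * d + 1 ∧ 3 ≤ d ∧ 7 ≤ q)
    (h_trichotomy : ∀ g : G, g ≠ 1 → (∃ x : G, x * g * x⁻¹ ∈ K) ∨
    (orderOf g).Coprime (2 * Nat.card K * d) ∨ (orderOf g).Coprime (2 * Nat.card K * q))
    (h_card_cent_Q : ∀ z : G, z ≠ 1 → (orderOf z).Coprime (2 * Nat.card K * d) →
    Nat.card (Subgroup.centralizer ({z} : Set G)) = q)
    (h_cent_Q_eq : ∀ z v : G, z ≠ 1 → (orderOf z).Coprime (2 * Nat.card K * d) →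
    v ∈ Subgroup.centralizer ({z} : Set G) → v ≠ 1 →
    (orderOf v).Coprime (2 * Nat.card K * d) ∧
      Subgroup.centralizer ({v} : Set G) = Subgroup.centralizer ({z} : Set G))
    (h_cent_Q_conj : ∀ z z' : G, z ≠ 1 → (orderOf z).Coprime (2 * Nat.card K * d) → z' ≠ 1 →
    (orderOf z').Coprime (2 * Nat.card K * d) →
    ∃ g : G, (Subgroup.centralizer ({z} : Set G)).map (MulAut.conj g).toMonoidHom =
      Subgroup.centralizer ({z'} : Set G)) :
    ∀ z : G, z ≠ 1 → (orderOf z).Coprime (2 * Nat.card K * d) →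
    Nat.card (Subgroup.normalizer ((Subgroup.centralizer ({z} : Set G) : Subgroup G) : Set G)) *
      (q + 1) = Nat.card G := by
  classical
  intro z hz1 hzc
  haveI : Fintype G := Fintype.ofFinite G
  obtain ⟨-, -, hq2k, -, -, -, -, hq7⟩ := h_arith
  have hQcard := h_card_cent_Q z hz1 hzc
  -- characterization of the `q`-elements
  have hchar : ∀ g : G, ¬ (orderOf g).Coprime q ↔
      (g ≠ 1 ∧ (orderOf g).Coprime (2 * Nat.card K * d)) := by
    intro g
    constructor
    · intro hg
      have hg1 : g ≠ 1 := by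
        rintro rfl
        apply hg
        rw [orderOf_one]
        exact Nat.coprime_one_left q
      refine ⟨hg1, ?_⟩
      rcases h_trichotomy g hg1 with ⟨x, hx⟩ | h | h
      · exfalso
        apply hg
        have hord : orderOf (x * g * x⁻¹) = orderOf g := by
          have := MulEquiv.orderOf_eq (MulAut.conj x) g
          rwa [MulAut.conj_apply] at this
        have hdvd : orderOf g ∣ Nat.card K := by
          rw [← hord]
          exact Subgroup.orderOf_dvd_natCard K hx
        have hKq : (Nat.card K).Coprime q :=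
          (Nat.Coprime.coprime_dvd_right (Dvd.intro_left 2 rfl) hq2k).symm
        exact Nat.Coprime.coprime_dvd_left hdvd hKq
      · exact h
      · exfalso
        apply hg
        exact Nat.Coprime.coprime_dvd_right (Dvd.intro_left _ rfl) h
    · rintro ⟨hg1, hgc⟩ hcop
      have hdvd : orderOf g ∣ 2 * Nat.card K * d * q := by
        have h1 : orderOf g ∣ Nat.card G := orderOf_dvd_natCard g
        rw [c.card] at h1
        have e : 2 * Nat.card K * q * d = 2 * Nat.card K * d * q := by ring
        rwa [e] at h1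
      have hdq : orderOf g ∣ q := Nat.Coprime.dvd_of_dvd_mul_left hgc hdvd
      have hone : orderOf g = 1 := Nat.Coprime.eq_one_of_dvd hcop hdq
      exact hg1 (orderOf_eq_one_iff.mp hone)
  -- the double counting
  have hdc := sum_card_bipartiteAbove_eq_sum_card_bipartiteBelow
    (s := (univ : Finset G)) (t := univ.filter (fun g : G => ¬ (orderOf g).Coprime q))
    (r := fun g w : G => g⁻¹ * w * g ∈ Subgroup.centralizer ({z} : Set G))
  -- the fibres over `g`
  have hQf : (univ.filter (fun v : G => v ∈ Subgroup.centralizer ({z} : Set G))).card = q := by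
    rw [← hQcard, Nat.card_eq_fintype_card, Fintype.card_subtype]
  have hleft : ∀ g ∈ (univ : Finset G),
      ((univ.filter (fun g : G => ¬ (orderOf g).Coprime q)).bipartiteAbove
        (fun g w : G => g⁻¹ * w * g ∈ Subgroup.centralizer ({z} : Set G)) g).card = q - 1 := by
    intro g _
    have himg : (univ.filter (fun g : G => ¬ (orderOf g).Coprime q)).bipartiteAbove
        (fun g w : G => g⁻¹ * w * g ∈ Subgroup.centralizer ({z} : Set G)) g =
        ((univ.filter (fun v : G => v ∈ Subgroup.centralizer ({z} : Set G))).erase 1).image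
          (fun v => g * v * g⁻¹) := by
      ext w
      rw [mem_bipartiteAbove, mem_filter, mem_image]
      constructor
      · rintro ⟨⟨-, hw⟩, hwQ⟩
        refine ⟨g⁻¹ * w * g, ?_, by group⟩
        rw [mem_erase, mem_filter]
        refine ⟨?_, mem_univ _, hwQ⟩
        intro h1
        have hw1 : w = 1 := by
          have : w = g * (g⁻¹ * w * g) * g⁻¹ := by group
          rw [this, h1]; group
        exact ((hchar w).mp hw).1 hw1
      · rintro ⟨v, hv, rfl⟩
        rw [mem_erase, mem_filter] at hv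
        obtain ⟨hv1, -, hvQ⟩ := hv
        have hvc := (h_cent_Q_eq z v hz1 hzc hvQ hv1).1
        have hord : orderOf (g * v * g⁻¹) = orderOf v := by
          have := MulEquiv.orderOf_eq (MulAut.conj g) v
          rwa [MulAut.conj_apply] at this
        refine ⟨⟨mem_univ _, ?_⟩, ?_⟩
        · rw [hord]
          exact (hchar v).mpr ⟨hv1, hvc⟩
        · have : g⁻¹ * (g * v * g⁻¹) * g = v := by group
          rw [this]
          exact hvQ
    rw [himg, card_image_of_injective, card_erase_of_mem, hQf]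
    · rw [mem_filter]
      exact ⟨mem_univ _, Subgroup.one_mem _⟩
    · intro a b hab
      have h1 : g * a * g⁻¹ = g * b * g⁻¹ := hab
      exact mul_left_cancel (mul_right_cancel h1)
  -- the fibres over `w`
  have hNf : (univ.filter (fun n : G => n ∈ Subgroup.normalizer
      ((Subgroup.centralizer ({z} : Set G) : Subgroup G) : Set G))).card =
      Nat.card (Subgroup.normalizer ((Subgroup.centralizer ({z} : Set G) : Subgroup G) : Set G)) := by
    rw [Nat.card_eq_fintype_card, Fintype.card_subtype]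
  have hright : ∀ w ∈ univ.filter (fun g : G => ¬ (orderOf g).Coprime q),
      ((univ : Finset G).bipartiteBelow
        (fun g w : G => g⁻¹ * w * g ∈ Subgroup.centralizer ({z} : Set G)) w).card =
      Nat.card (Subgroup.normalizer ((Subgroup.centralizer ({z} : Set G) : Subgroup G) : Set G)) := by
    intro w hw
    rw [mem_filter] at hw
    obtain ⟨hw1, hwc⟩ := (hchar w).mp hw.2
    obtain ⟨g₀, hg₀⟩ := h_cent_Q_conj z w hz1 hzc hw1 hwc
    have hwCw : w ∈ Subgroup.centralizer ({w} : Set G) := by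
      rw [Subgroup.mem_centralizer_iff]
      intro y hy
      rw [Set.mem_singleton_iff] at hy
      rw [hy]
    rw [← hg₀] at hwCw
    obtain ⟨v₀, hv₀Q, hv₀w⟩ := hwCw
    have hv₀w' : g₀ * v₀ * g₀⁻¹ = w := hv₀w
    have hv₀1 : v₀ ≠ 1 := by
      rintro rfl
      apply hw1
      rw [← hv₀w']; group
    have hCv₀ := (h_cent_Q_eq z v₀ hz1 hzc hv₀Q hv₀1).2
    have himg : (univ : Finset G).bipartiteBelow
        (fun g w : G => g⁻¹ * w * g ∈ Subgroup.centralizer ({z} : Set G)) w =
        (univ.filter (fun n : G => n ∈ Subgroup.normalizer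
          ((Subgroup.centralizer ({z} : Set G) : Subgroup G) : Set G))).image
          (fun n => g₀ * n) := by
      ext g
      rw [mem_bipartiteBelow, mem_image]
      constructor
      · rintro ⟨-, hgQ⟩
        refine ⟨g₀⁻¹ * g, ?_, by group⟩
        rw [mem_filter]
        refine ⟨mem_univ _, ?_⟩
        -- `v = g⁻¹ w g` is a non-identity element of `Q`, so `C(v) = Q`
        have hv1 : g⁻¹ * w * g ≠ 1 := by
          intro h1
          apply hw1
          have : w = g * (g⁻¹ * w * g) * g⁻¹ := by group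
          rw [this, h1]; group
        have hCv := (h_cent_Q_eq z _ hz1 hzc hgQ hv1).2
        have hv : g⁻¹ * w * g = (g₀⁻¹ * g)⁻¹ * v₀ * (g₀⁻¹ * g) := by
          rw [← hv₀w']; group
        rw [Subgroup.mem_normalizer_iff'']
        intro h
        have hL : h ∈ Subgroup.centralizer ({z} : Set G) ↔
            h ∈ Subgroup.centralizer ({v₀} : Set G) := by rw [hCv₀]
        have hR : (g₀⁻¹ * g)⁻¹ * h * (g₀⁻¹ * g) ∈ Subgroup.centralizer ({z} : Set G) ↔
            (g₀⁻¹ * g)⁻¹ * h * (g₀⁻¹ * g) ∈ Subgroup.centralizer ({g⁻¹ * w * g} : Set G) := by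
          rw [hCv]
        rw [hL, hR, Subgroup.mem_centralizer_iff, Subgroup.mem_centralizer_iff]
        constructor
        · intro hh y hy
          rw [Set.mem_singleton_iff] at hy
          have e := hh v₀ (Set.mem_singleton _)
          rw [hy, hv]
          calc (g₀⁻¹ * g)⁻¹ * v₀ * (g₀⁻¹ * g) * ((g₀⁻¹ * g)⁻¹ * h * (g₀⁻¹ * g))
              = (g₀⁻¹ * g)⁻¹ * (v₀ * h) * (g₀⁻¹ * g) := by group
            _ = (g₀⁻¹ * g)⁻¹ * (h * v₀) * (g₀⁻¹ * g) := by rw [e]
            _ = (g₀⁻¹ * g)⁻¹ * h * (g₀⁻¹ * g) * ((g₀⁻¹ * g)⁻¹ * v₀ * (g₀⁻¹ * g)) := by group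
        · intro hh y hy
          rw [Set.mem_singleton_iff] at hy
          have e := hh (g⁻¹ * w * g) (Set.mem_singleton _)
          rw [hv] at e
          rw [hy]
          have e' : (g₀⁻¹ * g)⁻¹ * (v₀ * h) * (g₀⁻¹ * g) =
              (g₀⁻¹ * g)⁻¹ * (h * v₀) * (g₀⁻¹ * g) := by
            calc (g₀⁻¹ * g)⁻¹ * (v₀ * h) * (g₀⁻¹ * g)
                = (g₀⁻¹ * g)⁻¹ * v₀ * (g₀⁻¹ * g) * ((g₀⁻¹ * g)⁻¹ * h * (g₀⁻¹ * g)) := by group
              _ = (g₀⁻¹ * g)⁻¹ * h * (g₀⁻¹ * g) * ((g₀⁻¹ * g)⁻¹ * v₀ * (g₀⁻¹ * g)) := e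
              _ = (g₀⁻¹ * g)⁻¹ * (h * v₀) * (g₀⁻¹ * g) := by group
          exact mul_left_cancel (mul_right_cancel e')
      · rintro ⟨n, hn, rfl⟩
        rw [mem_filter] at hn
        refine ⟨mem_univ _, ?_⟩
        have h1 : (g₀ * n)⁻¹ * w * (g₀ * n) = n⁻¹ * v₀ * n := by
          rw [← hv₀w']; group
        rw [h1]
        exact (Subgroup.mem_normalizer_iff''.mp hn.2 v₀).mp hv₀Q
    rw [himg, card_image_of_injective _ (mul_right_injective g₀), hNf]
  rw [sum_congr rfl hleft, sum_congr rfl hright, sum_const, sum_const, smul_eq_mul, smul_eq_mul,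
    card_univ] at hdc
  -- arithmetic
  have hcount := c.countQ
  rw [Nat.card_eq_fintype_card, Fintype.card_subtype] at hcount
  have hG : Nat.card G = Fintype.card G := Nat.card_eq_fintype_card
  rw [hG]
  obtain ⟨q', rfl⟩ : ∃ q', q = q' + 1 := ⟨q - 1, by omega⟩
  have hq'pos : 0 < q' := by omega
  have hm : (univ.filter (fun g : G => ¬ (orderOf g).Coprime (q' + 1))).card = q' * (q' + 2) := by
    have : (univ.filter (fun g : G => ¬ (orderOf g).Coprime (q' + 1))).card + 1 = (q' + 1) ^ 2 :=
      hcount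
    have e : (q' + 1) ^ 2 = q' * (q' + 2) + 1 := by ring
    omega
  rw [hm, Nat.add_sub_cancel] at hdc
  have hfin : q' * Fintype.card G = q' * (Nat.card (Subgroup.normalizer
      ((Subgroup.centralizer ({z} : Set G) : Subgroup G) : Set G)) * (q' + 1 + 1)) := by
    rw [mul_comm q' (Fintype.card G), hdc]
    ring
  exact (Nat.eq_of_mul_eq_mul_left hq'pos hfin).symm

end Cfsg.Agent.Helper53.BSW
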