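import Mathlib
import Cfsg.Agent.Helper71.BSW.DefsCT
import Cfsg.Agent.Helper79.ClassMult

/-!
# S3282 (helper71's architecture) piece (T8a): the involution class-multiplication sum on `K#`
(board WANTED #11156)

Class multiplication constants (`Cfsg.Agent.Helper79.card_conj_mul_conj_eq`) for `x = y = t`, `w = y`:
the pairs `(a, b)` with `a t a⁻¹ * b t b⁻¹ = y` are fibred over the pairs of involutions with
product `y`, with fibres of size `|C(t)|² = (2|K|)²`.
-/

set_option autoImplicit false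

namespace Cfsg.Agent.Helper53.BSW

open Cfsg Cfsg.Agent.Helper71.BSW Finset
open scoped ComplexConjugate

/-- the number of `a` with `a t a⁻¹ = p` is `|C(t)|` when `p` is conjugate to `t` -/
theorem card_conj_fibre {G : Type*} [Group G] [Fintype G] [DecidableEq G] (t p : G)
    (hp : IsConj t p) :
    (univ.filter (fun a : G => a * t * a⁻¹ = p)).card =
      Nat.card (Subgroup.centralizer ({t} : Set G)) := by
  classical
  obtain ⟨c, hc⟩ := isConj_iff.mp hp
  have himg : univ.filter (fun a : G => a * t * a⁻¹ = p) =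
      (univ.filter (fun n : G => n ∈ Subgroup.centralizer ({t} : Set G))).image (fun n => c * n) := by
    ext a
    rw [mem_filter, mem_image]
    constructor
    · rintro ⟨-, ha⟩
      refine ⟨c⁻¹ * a, ?_, by group⟩
      rw [mem_filter]
      refine ⟨mem_univ _, ?_⟩
      rw [Subgroup.mem_centralizer_iff]
      intro h hh
      rw [Set.mem_singleton_iff] at hh
      rw [hh]
      have e : a * t * a⁻¹ = c * t * c⁻¹ := by rw [ha, hc]
      have e2 : c⁻¹ * (a * t * a⁻¹) * a = c⁻¹ * (c * t * c⁻¹) * a := by rw [e]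
      have e3 : c⁻¹ * (a * t * a⁻¹) * a = c⁻¹ * a * t := by group
      have e4 : c⁻¹ * (c * t * c⁻¹) * a = t * (c⁻¹ * a) := by group
      rw [e3, e4] at e2
      exact e2.symm
    · rintro ⟨n, hn, rfl⟩
      rw [mem_filter] at hn
      refine ⟨mem_univ _, ?_⟩
      have hn' := (Subgroup.mem_centralizer_iff.mp hn.2) t (Set.mem_singleton _)
      rw [← hc]
      calc c * n * t * (c * n)⁻¹ = c * (n * t) * n⁻¹ * c⁻¹ := by group
        _ = c * (t * n) * n⁻¹ * c⁻¹ := by rw [hn']
        _ = c * t * c⁻¹ := by group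
  rw [himg, card_image_of_injective _ (mul_right_injective c), Nat.card_eq_fintype_card,
    Fintype.card_subtype]

theorem t_invol_char_sum {G : Type*} [Group G] [Fintype G] [Fintype (IrrCharacter G)] {t s : G} {K : Subgroup G}
    [Fintype ↥K] [Fintype (↥K →* ℂˣ)]
    (h : Hyp t s K) (A0 : FactsA0 t s K) (A1 : FactsA1 t s K) :
    ∀ y ∈ K, y ≠ 1 →
      ∑ χ : IrrCharacter G, (χ : G → ℂ) t ^ 2 / (χ : G → ℂ) 1 * (χ : G → ℂ) y =
        4 * (Nat.card K : ℂ) ^ 3 / (Nat.card G : ℂ) := by
  classical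
  intro y hyK hy1
  have hcm := Cfsg.Agent.Helper79.card_conj_mul_conj_eq (G := G) t t y
  -- count the left side
  have hcent : Nat.card (Subgroup.centralizer ({t} : Set G)) = 2 * Nat.card K := A0.card_cent_t
  have hinvP : invPairs y = Nat.card K := A1.invPairs_of_mem_K y hyK hy1
  have hIf : (univ.filter (fun p : G × G => orderOf p.1 = 2 ∧ orderOf p.2 = 2 ∧ p.1 * p.2 = y)).card =
      Nat.card K := by
    rw [← hinvP]
    unfold invPairs
    rw [Nat.card_eq_fintype_card, Fintype.card_subtype]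
  have ht2 : orderOf t = 2 := h.ht
  have hord : ∀ a : G, orderOf (a * t * a⁻¹) = 2 := by
    intro a
    have := MulEquiv.orderOf_eq (MulAut.conj a) t
    rw [MulAut.conj_apply] at this
    rw [this, ht2]
  have hcount : (univ.filter (fun ab : G × G => ab.1 * t * ab.1⁻¹ * (ab.2 * t * ab.2⁻¹) = y)).card =
      Nat.card K * ((2 * Nat.card K) * (2 * Nat.card K)) := by
    rw [card_eq_sum_card_fiberwise (f := fun ab : G × G => (ab.1 * t * ab.1⁻¹, ab.2 * t * ab.2⁻¹))
      (t := univ.filter (fun p : G × G => orderOf p.1 = 2 ∧ orderOf p.2 = 2 ∧ p.1 * p.2 = y))]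
    · have hfib : ∀ p ∈ univ.filter
          (fun p : G × G => orderOf p.1 = 2 ∧ orderOf p.2 = 2 ∧ p.1 * p.2 = y),
          ((univ.filter (fun ab : G × G => ab.1 * t * ab.1⁻¹ * (ab.2 * t * ab.2⁻¹) = y)).filter
            (fun ab : G × G => (ab.1 * t * ab.1⁻¹, ab.2 * t * ab.2⁻¹) = p)).card =
          (2 * Nat.card K) * (2 * Nat.card K) := by
        intro p hp
        rw [mem_filter] at hp
        obtain ⟨-, hp1, hp2, hpy⟩ := hp
        have hprod : (univ.filter (fun ab : G × G => ab.1 * t * ab.1⁻¹ * (ab.2 * t * ab.2⁻¹) = y)).filter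
            (fun ab : G × G => (ab.1 * t * ab.1⁻¹, ab.2 * t * ab.2⁻¹) = p) =
            (univ.filter (fun a : G => a * t * a⁻¹ = p.1)) ×ˢ
              (univ.filter (fun b : G => b * t * b⁻¹ = p.2)) := by
          ext ab
          rw [mem_filter, mem_filter, mem_product, mem_filter, mem_filter]
          constructor
          · rintro ⟨⟨-, -⟩, hab⟩
            rw [Prod.ext_iff] at hab
            exact ⟨⟨mem_univ _, hab.1⟩, ⟨mem_univ _, hab.2⟩⟩
          · rintro ⟨⟨-, ha⟩, ⟨-, hb⟩⟩
            refine ⟨⟨mem_univ _, ?_⟩, ?_⟩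
            · rw [ha, hb, hpy]
            · rw [ha, hb]
        rw [hprod, card_product, card_conj_fibre t p.1 (h.hconj t p.1 ht2 hp1),
          card_conj_fibre t p.2 (h.hconj t p.2 ht2 hp2), hcent]
      rw [sum_congr rfl hfib, sum_const, hIf, smul_eq_mul]
    · intro ab hab
      rw [mem_coe, mem_filter] at hab
      rw [mem_coe, mem_filter]
      exact ⟨mem_univ _, hord ab.1, hord ab.2, hab.2⟩
  rw [hcount] at hcm
  -- the character side
  have hterm : ∀ χ : IrrCharacter G,
      (χ : G → ℂ) t * (χ : G → ℂ) t * conj ((χ : G → ℂ) y) / (χ : G → ℂ) 1 =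
      (χ : G → ℂ) t ^ 2 / (χ : G → ℂ) 1 * (χ : G → ℂ) y := by
    intro χ
    have e1 : conj ((χ : G → ℂ) y) = (χ : G → ℂ) y := by
      rw [← Cfsg.Agent.Helper79.irr_inv χ y, ← h.hinv y hyK]
      exact Cfsg.Agent.Helper79.irr_isClassFunction χ y s
    rw [e1]
    ring
  rw [sum_congr rfl (fun χ _ => hterm χ)] at hcm
  have hG : (Nat.card G : ℂ) ≠ 0 := by
    have : 0 < Nat.card G := Nat.card_pos
    exact_mod_cast this.ne'
  rw [eq_div_iff hG, mul_comm, ← hcm]
  push_cast
  ring

end Cfsg.Agent.Helper53.BSW
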