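import Mathlib
import Cfsg.Agent.Helper71.BSW.DefsCT

/-!
# S3282 (helper71's architecture) piece (T8b): the weighted multiplicity sum `F(μ)` is the constant
`4|K|³/|G|` (board WANTED #11157)
-/

set_option autoImplicit false

namespace Cfsg.Agent.Helper53.BSW

open Cfsg Cfsg.Agent.Helper71.BSW

theorem t_F_const {G : Type*} [Group G] [Fintype G] [Fintype (IrrCharacter G)] {t s : G} {K : Subgroup G}
    [Fintype ↥K] [Fintype (↥K →* ℂˣ)]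
    (h : Hyp t s K)
    (h_irr_apply_K : ∀ (χ : IrrCharacter G) (y : K), (y : G) ≠ 1 →
    (χ : G → ℂ) (y : G) = - ∑ μ : K →* ℂˣ, (1 - ind μ 1) * coef K μ χ * ((μ y : ℂˣ) : ℂ))
    (h_sum_dual : ∀ y : K, y ≠ 1 → ∑ μ : K →* ℂˣ, ((μ y : ℂˣ) : ℂ) = 0)
    (h_sum : ∀ y ∈ K, y ≠ 1 →
      ∑ χ : IrrCharacter G, (χ : G → ℂ) t ^ 2 / (χ : G → ℂ) 1 * (χ : G → ℂ) y =
        4 * (Nat.card K : ℂ) ^ 3 / (Nat.card G : ℂ))
    (h_orth_dual : ∀ μ ν : K →* ℂˣ,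
      ∑ y : K, ((μ y : ℂˣ) : ℂ) * ((ν y⁻¹ : ℂˣ) : ℂ) = (Nat.card K : ℂ) * ind μ ν)
    :
    ∀ μ : K →* ℂˣ, μ ≠ 1 →
    ∑ χ : IrrCharacter G, (χ : G → ℂ) t ^ 2 / (χ : G → ℂ) 1 * coef K μ χ =
      4 * (Nat.card K : ℂ) ^ 3 / (Nat.card G : ℂ) := by
  classical
  intro ν hν
  have hone : ∀ μ : K →* ℂˣ, ((μ (1 : K) : ℂˣ) : ℂ) = 1 := by
    intro μ
    rw [map_one, Units.val_one]
  -- Step 1
  have h1 : ∀ y : K, y ≠ 1 →
      ∑ μ : K →* ℂˣ, (1 - ind μ 1) *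
        (∑ χ : IrrCharacter G, (χ : G → ℂ) t ^ 2 / (χ : G → ℂ) 1 * coef K μ χ) *
        ((μ y : ℂˣ) : ℂ) = -(4 * (Nat.card K : ℂ) ^ 3 / (Nat.card G : ℂ)) := by
    intro y hy
    have hy' : (y : G) ≠ 1 := by
      intro h0
      apply hy
      exact Subtype.ext h0
    have hs := h_sum (y : G) y.2 hy'
    calc ∑ μ : K →* ℂˣ, (1 - ind μ 1) *
          (∑ χ : IrrCharacter G, (χ : G → ℂ) t ^ 2 / (χ : G → ℂ) 1 * coef K μ χ) *
          ((μ y : ℂˣ) : ℂ)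
        = ∑ μ : K →* ℂˣ, ∑ χ : IrrCharacter G,
            (χ : G → ℂ) t ^ 2 / (χ : G → ℂ) 1 *
              ((1 - ind μ 1) * coef K μ χ * ((μ y : ℂˣ) : ℂ)) := by
          apply Finset.sum_congr rfl
          intro μ _
          rw [Finset.mul_sum, Finset.sum_mul]
          apply Finset.sum_congr rfl
          intro χ _
          ring
      _ = ∑ χ : IrrCharacter G, ∑ μ : K →* ℂˣ,
            (χ : G → ℂ) t ^ 2 / (χ : G → ℂ) 1 *
              ((1 - ind μ 1) * coef K μ χ * ((μ y : ℂˣ) : ℂ)) := Finset.sum_comm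
      _ = ∑ χ : IrrCharacter G, (χ : G → ℂ) t ^ 2 / (χ : G → ℂ) 1 * (-((χ : G → ℂ) (y : G))) := by
          apply Finset.sum_congr rfl
          intro χ _
          rw [← Finset.mul_sum, h_irr_apply_K χ y hy', neg_neg]
      _ = -(4 * (Nat.card K : ℂ) ^ 3 / (Nat.card G : ℂ)) := by
          rw [← hs, ← Finset.sum_neg_distrib]
          apply Finset.sum_congr rfl
          intro χ _
          ring
  -- Step 2
  have h2 : ∀ y : K, y ≠ 1 → ∑ μ : K →* ℂˣ, (1 - ind μ 1) * ((μ y : ℂˣ) : ℂ) = -1 := by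
    intro y hy
    have e1 : ∀ μ : K →* ℂˣ, (1 - ind μ 1) * ((μ y : ℂˣ) : ℂ) =
        ((μ y : ℂˣ) : ℂ) - ind μ 1 * ((μ y : ℂˣ) : ℂ) := by
      intro μ; ring
    rw [Finset.sum_congr rfl (fun μ _ => e1 μ), Finset.sum_sub_distrib, h_sum_dual y hy,
      Finset.sum_eq_single (1 : K →* ℂˣ)]
    · rw [ind_self, MonoidHom.one_apply, Units.val_one]; ring
    · intro μ _ hμ
      rw [ind_of_ne hμ, zero_mul]
    · intro hh
      exact absurd (Finset.mem_univ _) hh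
  -- Step 3
  have h3 : ∀ y : K, y ≠ 1 →
      ∑ μ : K →* ℂˣ, ((1 - ind μ 1) *
        ((∑ χ : IrrCharacter G, (χ : G → ℂ) t ^ 2 / (χ : G → ℂ) 1 * coef K μ χ) -
          4 * (Nat.card K : ℂ) ^ 3 / (Nat.card G : ℂ))) * ((μ y : ℂˣ) : ℂ) = 0 := by
    intro y hy
    have e1 : ∀ μ : K →* ℂˣ, ((1 - ind μ 1) *
        ((∑ χ : IrrCharacter G, (χ : G → ℂ) t ^ 2 / (χ : G → ℂ) 1 * coef K μ χ) -
          4 * (Nat.card K : ℂ) ^ 3 / (Nat.card G : ℂ))) * ((μ y : ℂˣ) : ℂ) =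
        (1 - ind μ 1) *
          (∑ χ : IrrCharacter G, (χ : G → ℂ) t ^ 2 / (χ : G → ℂ) 1 * coef K μ χ) *
          ((μ y : ℂˣ) : ℂ) -
        4 * (Nat.card K : ℂ) ^ 3 / (Nat.card G : ℂ) * ((1 - ind μ 1) * ((μ y : ℂˣ) : ℂ)) := by
      intro μ; ring
    rw [Finset.sum_congr rfl (fun μ _ => e1 μ), Finset.sum_sub_distrib, ← Finset.mul_sum,
      h1 y hy, h2 y hy]
    ring
  -- Step 4
  have h4 : ∀ ν' : K →* ℂˣ, (Nat.card K : ℂ) * ((1 - ind ν' 1) *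
        ((∑ χ : IrrCharacter G, (χ : G → ℂ) t ^ 2 / (χ : G → ℂ) 1 * coef K ν' χ) -
          4 * (Nat.card K : ℂ) ^ 3 / (Nat.card G : ℂ))) =
      ∑ μ : K →* ℂˣ, (1 - ind μ 1) *
        ((∑ χ : IrrCharacter G, (χ : G → ℂ) t ^ 2 / (χ : G → ℂ) 1 * coef K μ χ) -
          4 * (Nat.card K : ℂ) ^ 3 / (Nat.card G : ℂ)) := by
    intro ν'
    have hA : ∑ y : K, (∑ μ : K →* ℂˣ, ((1 - ind μ 1) *
        ((∑ χ : IrrCharacter G, (χ : G → ℂ) t ^ 2 / (χ : G → ℂ) 1 * coef K μ χ) -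
          4 * (Nat.card K : ℂ) ^ 3 / (Nat.card G : ℂ))) * ((μ y : ℂˣ) : ℂ)) *
          ((ν' y⁻¹ : ℂˣ) : ℂ) =
        ∑ μ : K →* ℂˣ, (1 - ind μ 1) *
        ((∑ χ : IrrCharacter G, (χ : G → ℂ) t ^ 2 / (χ : G → ℂ) 1 * coef K μ χ) -
          4 * (Nat.card K : ℂ) ^ 3 / (Nat.card G : ℂ)) := by
      rw [Finset.sum_eq_single (1 : K)]
      · rw [inv_one, hone ν', mul_one]
        apply Finset.sum_congr rfl
        intro μ _
        rw [hone μ, mul_one]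
      · intro y _ hy
        rw [h3 y hy, zero_mul]
      · intro hh
        exact absurd (Finset.mem_univ _) hh
    have hB : ∑ y : K, (∑ μ : K →* ℂˣ, ((1 - ind μ 1) *
        ((∑ χ : IrrCharacter G, (χ : G → ℂ) t ^ 2 / (χ : G → ℂ) 1 * coef K μ χ) -
          4 * (Nat.card K : ℂ) ^ 3 / (Nat.card G : ℂ))) * ((μ y : ℂˣ) : ℂ)) *
          ((ν' y⁻¹ : ℂˣ) : ℂ) =
        (Nat.card K : ℂ) * ((1 - ind ν' 1) *
        ((∑ χ : IrrCharacter G, (χ : G → ℂ) t ^ 2 / (χ : G → ℂ) 1 * coef K ν' χ) -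
          4 * (Nat.card K : ℂ) ^ 3 / (Nat.card G : ℂ))) := by
      have e1 : ∀ y : K, (∑ μ : K →* ℂˣ, ((1 - ind μ 1) *
        ((∑ χ : IrrCharacter G, (χ : G → ℂ) t ^ 2 / (χ : G → ℂ) 1 * coef K μ χ) -
          4 * (Nat.card K : ℂ) ^ 3 / (Nat.card G : ℂ))) * ((μ y : ℂˣ) : ℂ)) *
          ((ν' y⁻¹ : ℂˣ) : ℂ) =
          ∑ μ : K →* ℂˣ, ((1 - ind μ 1) *
        ((∑ χ : IrrCharacter G, (χ : G → ℂ) t ^ 2 / (χ : G → ℂ) 1 * coef K μ χ) -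
          4 * (Nat.card K : ℂ) ^ 3 / (Nat.card G : ℂ))) *
            (((μ y : ℂˣ) : ℂ) * ((ν' y⁻¹ : ℂˣ) : ℂ)) := by
        intro y
        rw [Finset.sum_mul]
        apply Finset.sum_congr rfl
        intro μ _
        ring
      rw [Finset.sum_congr rfl (fun y _ => e1 y), Finset.sum_comm]
      have e2 : ∀ μ : K →* ℂˣ, ∑ y : K, ((1 - ind μ 1) *
        ((∑ χ : IrrCharacter G, (χ : G → ℂ) t ^ 2 / (χ : G → ℂ) 1 * coef K μ χ) -
          4 * (Nat.card K : ℂ) ^ 3 / (Nat.card G : ℂ))) *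
            (((μ y : ℂˣ) : ℂ) * ((ν' y⁻¹ : ℂˣ) : ℂ)) =
          ((1 - ind μ 1) *
        ((∑ χ : IrrCharacter G, (χ : G → ℂ) t ^ 2 / (χ : G → ℂ) 1 * coef K μ χ) -
          4 * (Nat.card K : ℂ) ^ 3 / (Nat.card G : ℂ))) * ((Nat.card K : ℂ) * ind μ ν') := by
        intro μ
        rw [← Finset.mul_sum, h_orth_dual μ ν']
      rw [Finset.sum_congr rfl (fun μ _ => e2 μ), Finset.sum_eq_single ν']
      · rw [ind_self]; ring
      · intro μ _ hμ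
        rw [ind_of_ne hμ, mul_zero, mul_zero]
      · intro hh
        exact absurd (Finset.mem_univ _) hh
    rw [← hB, hA]
  -- Step 5
  have hT : ∑ μ : K →* ℂˣ, (1 - ind μ 1) *
        ((∑ χ : IrrCharacter G, (χ : G → ℂ) t ^ 2 / (χ : G → ℂ) 1 * coef K μ χ) -
          4 * (Nat.card K : ℂ) ^ 3 / (Nat.card G : ℂ)) = 0 := by
    rw [← h4 1, ind_self, sub_self, zero_mul, mul_zero]
  have h5 := h4 ν
  rw [hT, ind_of_ne hν, sub_zero, one_mul] at h5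
  have hK : (Nat.card K : ℂ) ≠ 0 := by
    have : 0 < Nat.card K := Nat.card_pos
    exact_mod_cast this.ne'
  rcases mul_eq_zero.mp h5 with h6 | h6
  · exact absurd h6 hK
  · exact sub_eq_zero.mp h6

end Cfsg.Agent.Helper53.BSW
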